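import Groth.Agent.DualFMLib.Nat
import Groth.Agent.DualFMLib.FlatHom.PC
import Groth.Agent.Dual3Lib.Detect
import Groth.Agent.ShriekLib.PerfTensor
import Groth.Agent.ShriekLib.Perfect
import Groth.Agent.QRlimLib.Trunc
import Groth.Agent.QRlimLib.Push

/-!
# The right adjoint of a flat perfect direct image is right t-exact after pushing forward
-/

set_option autoImplicit false
set_option linter.style.haveILetI false
set_option linter.unusedSectionVars false
set_option backward.isDefEq.respectTransparency false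
set_option backward.isDefEq.respectTransparency.types false
set_option maxHeartbeats 1000000
set_option synthInstance.maxHeartbeats 200000

universe u

open CategoryTheory CategoryTheory.Limits AlgebraicGeometry DerivedCategory
open Groth.Agent Groth.Agent.DerLib Groth.Agent.PerfDualLib

attribute [local instance] HasDerivedCategory.standard

noncomputable section

namespace Groth.Agent.BCArbLib

/-- `- ⊗ O ≅ id`. -/
theorem nonempty_lTensor_unit_id (X : Scheme.{u}) [DCoh.HasLTensorCx (unitCx X)] :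
    Nonempty (DCoh.LTensorCx (unitCx X) ≅ 𝟭 (DCoh.D X)) :=
  ⟨Localization.liftNatIso DerivedCategory.Q (HomologicalComplex.quasiIso X.Modules (ComplexShape.up ℤ))
    (DerivedCategory.Q ⋙ DCoh.LTensorCx (unitCx X)) DerivedCategory.Q _ _
    (TensorAssocLib.flatCnt (unitCx X) (PerfBaseLib.isKFlat_unitCx X) ≪≫
      Functor.isoWhiskerRight PerfDualLib.unitNat DerivedCategory.Q ≪≫ Functor.leftUnitor _)⟩

variable {X Y : Scheme.{u}} (f : X ⟶ Y) [Flat f] [CompactSpace X] [QuasiSeparatedSpace X]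
  [CompactSpace Y] [QuasiSeparatedSpace Y] [QuasiCompact f] [QuasiSeparated f] [DCoh.HasRpush f]
  (hf : DCoh.RpushPreservesQCoh f) (a : DCoh.DQCoh Y ⥤ DCoh.DQCoh X) (adj : DCoh.RpushQ f hf ⊣ a)
  (hperf : DCoh.IsPerfect ((DCoh.Rpush f).obj (DerivedCategory.Q.obj (unitCx X))))

include adj hperf in
/-- `Rf_* a` does not raise degrees. -/
theorem isLE_rpush_rightAdjoint (C : DCoh.DQCoh Y) (c : ℤ) [C.obj.IsLE c] :
    ((DCoh.Rpush f).obj (a.obj C).obj).IsLE c := by
  haveI := KFlatLib.hasLpull f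
  haveI := KFlatLib.hasLTensorCx (unitCx X)
  obtain ⟨N, hN, ⟨eN⟩⟩ := PerfDualLib.exists_kFlat_model
    ((DCoh.Rpush f).obj (DerivedCategory.Q.obj (unitCx X)))
  haveI := KFlatLib.hasLTensorCx N
  have hNp : DCoh.IsPerfect (DerivedCategory.Q.obj N) := PerfLib.isPerfect_of_iso eN.symm hperf
  obtain ⟨D, _, hDp, ⟨adjD⟩, ⟨adjN⟩⟩ := ShriekLib.exists_dual_adj N hNp
  have hDq := KoszOrthLib.isQCohD_of_isPerfect hDp
  have hNq := KoszOrthLib.isQCohD_of_isPerfect hNp
  have huq : DCoh.IsQCohD (DerivedCategory.Q.obj (unitCx X)) :=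
    KFlatLib.isQCohD_iso ((DerivedCategory.singleFunctorIsoCompQ X.Modules 0).app (Coh.structureModule X))
      (KoszOrthLib.isQCohD_of_isPerfect (KoszOrthLib.isPerfect_inD_unit X))
  obtain ⟨p⟩ := DualFMLib.nonempty_projNat₂ f (unitCx X) huq N eN
  obtain ⟨u⟩ := nonempty_lTensor_unit_id X
  -- `N ⊗ - ≅ Rf_* Lf^*`
  let s : (DCoh.IsQCohD (X := Y)).ι ⋙ DCoh.LTensorCx N ≅
      (DCoh.IsQCohD (X := Y)).ι ⋙ DCoh.Lpull f ⋙ DCoh.Rpush f :=
    p ≪≫ Functor.isoWhiskerLeft _ (Functor.isoWhiskerLeft _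
      (Functor.isoWhiskerRight u (DCoh.Rpush f) ≪≫ Functor.leftUnitor _))
  have hge : ∀ (W : DCoh.DQCoh Y) (n : ℤ) [W.obj.IsGE n], ((DCoh.LTensorCx N).obj W.obj).IsGE n := by
    intro W n hn
    haveI := DualFMLib.isGE_lpull_flat f W.obj n
    haveI := QRlimLib.rpush_isGE f ((DCoh.Lpull f).obj W.obj) n
    exact DerivedCategory.TStructure.t.isGE_of_iso (X := (DCoh.Rpush f).obj ((DCoh.Lpull f).obj W.obj))
      (s.app W).symm n
  -- the dual is connective
  haveI hD0 : (DerivedCategory.Q.obj D).IsLE 0 := by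
    let K := DerivedCategory.Q.obj D
    let T := (TStructure.t.triangleLTGE 1).obj K
    have hT : T ∈ Pretriangulated.distinguishedTriangles := TStructure.t.triangleLTGE_distinguished 1 K
    haveI h1 : T.obj₁.IsLE 0 := TStructure.t.isLE_truncLT_obj K 1 0 (by omega)
    haveI h3 : T.obj₃.IsGE 1 := TStructure.t.isGE_truncGE_obj K 1 1 (by omega)
    have hWq : DCoh.IsQCohD T.obj₃ := by
      have h2 : DCoh.IsQCohD T.obj₁ := QRlimLib.isQCohD_truncLE hDq 0
      exact KFlatLib.isQCohD₂ (Pretriangulated.rot_of_distTriang _ hT) hDq (KFlatLib.isQCohD_shift h2 1)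
    have hz : T.mor₂ = 0 := by
      obtain ⟨e⟩ := Dual3Lib.nonempty_lTensorCx_unit D
      haveI := hge ⟨_, hWq⟩ 1
      haveI : (DerivedCategory.Q.obj (unitCx Y)).IsLE 0 :=
        TStructure.t.isLE_of_iso
          ((DerivedCategory.singleFunctorIsoCompQ Y.Modules 0).app (Coh.structureModule Y)) 0
      have h0 : adjD.homEquiv (DerivedCategory.Q.obj (unitCx Y)) T.obj₃ (e.hom ≫ T.mor₂) = 0 :=
        TStructure.t.zero _ 0 1 (by omega)
      have h0' : e.hom ≫ T.mor₂ = 0 := by
        haveI : (DCoh.LTensorCx D).PreservesZeroMorphisms :=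
          @Functor.preservesZeroMorphisms_of_isLeftAdjoint _ _ _ _ _ _ _ adjD.isLeftAdjoint
        rw [← (adjD.homEquiv _ _).apply_eq_iff_eq, h0, Adjunction.homEquiv_unit]
        haveI : (DCoh.LTensorCx N).PreservesZeroMorphisms :=
          @Functor.preservesZeroMorphisms_of_isRightAdjoint _ _ _ _ _ _ _ adjD.isRightAdjoint
        simp
      exact zero_of_epi_comp e.hom h0'
    rw [DerivedCategory.isLE_iff]
    intro i hi
    have hex := (DerivedCategory.homologyFunctor Y.Modules i).map_distinguished_exact T hT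
    refine hex.isZero_X₂ ?_ ?_
    · exact (DerivedCategory.isZero_of_isLE T.obj₁ 0 i hi).eq_of_src _ _
    · simp [Pretriangulated.shortComplexOfDistTriangle, hz]
  -- `a ⋙ Rf_*` is the right adjoint of `Lf^* ⋙ Rf_*`
  let LQ := ObjectProperty.lift (DCoh.IsQCohD (X := X)) ((DCoh.IsQCohD (X := Y)).ι ⋙ DCoh.Lpull f)
    fun W => KFlatLib.isQCohD_lpull f _ W.property
  let adjl : LQ ⊣ DCoh.RpushQ f hf :=
    (KFlatLib.lpullRpushAdj f).restrictFullyFaithful (DCoh.IsQCohD (X := Y)).fullyFaithfulι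
      (DCoh.IsQCohD (X := X)).fullyFaithfulι (ObjectProperty.liftCompιIso _ _ _).symm
      (ObjectProperty.liftCompιIso _ _ _).symm
  let eQ : LQ ⋙ DCoh.RpushQ f hf ≅ ShriekLib.tQ N hNq :=
    NatIso.ofComponents (fun W => ((DCoh.IsQCohD (X := Y)).fullyFaithfulι).preimageIso (s.app W).symm)
      fun g => (DCoh.IsQCohD (X := Y)).ι.map_injective (by
        simpa [ShriekLib.tQ, LQ] using s.inv.naturality g)
  let θ : a ⋙ DCoh.RpushQ f hf ≅ ShriekLib.tQ D hDq :=
    (adjl.comp adj).rightAdjointUniq ((ShriekLib.tQAdj N D hNq hDq adjN).ofNatIsoLeft eQ.symm)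
  have h := ShriekLib.isLE_lTensor_of_isLE D C.obj 0 c
  rw [add_zero] at h
  exact TStructure.t.isLE_of_iso (X := (DCoh.LTensorCx D).obj C.obj)
    ((DCoh.IsQCohD (X := Y)).ι.mapIso (θ.app C)).symm c

end Groth.Agent.BCArbLib
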