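import Groth.Agent.DualFMLib.FlatHom.Glob

/-!
# Lemmas for base change of the right adjoint along an arbitrary affine map
-/

set_option autoImplicit false
set_option linter.style.haveILetI false
set_option linter.unusedSectionVars false
set_option backward.isDefEq.respectTransparency false
set_option backward.isDefEq.respectTransparency.types false
set_option maxHeartbeats 1000000
set_option synthInstance.maxHeartbeats 200000

universe u

open CategoryTheory CategoryTheory.Limits AlgebraicGeometry CategoryTheory.Pretriangulated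
open DerivedCategory.TStructure (t)

attribute [local instance] HasDerivedCategory.standard

noncomputable section

namespace Groth.Agent.BCArbLib

section Abs

variable {C C' D' : Type*} [Category* C] [Category* C'] [Category* D'] {G : C ⥤ C'} {S : C ⥤ D'}
  {Φ A' : C' ⥤ D'} (γ : S ⟶ G ⋙ Φ) (b : S ⟶ G ⋙ A') {V : C'} (c : Φ.obj V ⟶ A'.obj V)

/-- Two transformations agree at a map, up to `c`. -/
def Agree (M : C) (χ : G.obj M ⟶ V) : Prop :=
  γ.app M ≫ Φ.map χ ≫ c = b.app M ≫ A'.map χ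

variable {γ b c}

theorem agree_comp_iff {M M' : C} (u : M ⟶ M') (χ : G.obj M' ⟶ V) :
    Agree γ b c M (G.map u ≫ χ) ↔
      S.map u ≫ γ.app M' ≫ Φ.map χ ≫ c = S.map u ≫ b.app M' ≫ A'.map χ := by
  have h1 := γ.naturality u
  have h2 := b.naturality u
  simp only [Functor.comp_map] at h1 h2
  rw [Agree, reassoc_of% h1, reassoc_of% h2, Functor.map_comp, Functor.map_comp, Category.assoc]

/-- Agreement spreads to a coproduct. -/
theorem agree_sigma {J : Type*} (M : J → C) [HasCoproduct M] [PreservesColimit (Discrete.functor M) S]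
    {M' : C} (p : ∐ M ⟶ M') (χ : G.obj M' ⟶ V)
    (h : ∀ j, Agree γ b c (M j) (G.map (Sigma.ι M j ≫ p) ≫ χ)) :
    S.map p ≫ γ.app M' ≫ Φ.map χ ≫ c = S.map p ≫ b.app M' ≫ A'.map χ :=
  (isColimitOfPreserves S (coproductIsCoproduct M)).hom_ext fun j => by
    have h1 := (agree_comp_iff _ χ).1 (h j.as)
    rw [Functor.map_comp, Category.assoc, Category.assoc] at h1
    exact h1

/-- Agreement from a triangle. -/
theorem agree_of_triangle [Preadditive D'] [Preadditive C] [HasZeroObject C] [HasShift C ℤ]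
    [∀ n : ℤ, (shiftFunctor C n).Additive] [Pretriangulated C] [HasZeroObject D'] [HasShift D' ℤ]
    [∀ n : ℤ, (shiftFunctor D' n).Additive] [Pretriangulated D'] [S.CommShift ℤ] [S.IsTriangulated]
    (T : Triangle C) (hT : T ∈ distTriang C) (χ : G.obj T.obj₂ ⟶ V)
    (h : S.map T.mor₁ ≫ γ.app T.obj₂ ≫ Φ.map χ ≫ c = S.map T.mor₁ ≫ b.app T.obj₂ ≫ A'.map χ)
    (hz : ∀ z : S.obj T.obj₃ ⟶ A'.obj V, z = 0) : Agree γ b c T.obj₂ χ := by
  obtain ⟨z, hz'⟩ : ∃ z : S.obj T.obj₃ ⟶ A'.obj V,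
      γ.app T.obj₂ ≫ Φ.map χ ≫ c - b.app T.obj₂ ≫ A'.map χ = S.map T.mor₂ ≫ z :=
    Triangle.yoneda_exact₂ _ (S.map_distinguished T hT) _ (by
      change S.map T.mor₁ ≫ _ = 0
      rw [Preadditive.comp_sub]
      exact sub_eq_zero.2 h)
  exact sub_eq_zero.1 (hz'.trans (by rw [hz z, comp_zero]))

/-- Agreement at a scalar. -/
theorem agree_smul {R : Type*} [CommRing R] [Preadditive D'] [CategoryTheory.Linear R D']
    (γ : S ⟶ G ⋙ Φ) (b : S ⟶ G ⋙ A') (M : C) (c : Φ.obj (G.obj M) ⟶ A'.obj (G.obj M))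
    (hc : γ.app M ≫ c = b.app M) {χ : G.obj M ⟶ G.obj M} (r : R)
    (hΦ : Φ.map χ = r • 𝟙 _) (hA : A'.map χ = r • 𝟙 _) : Agree γ b c M χ := by
  rw [Agree, hΦ, hA]
  simp only [Linear.smul_comp, Linear.comp_smul]
  refine congrArg (r • ·) ?_
  rw [← hc]
  simp

/-- The component is invertible when two transposes are. -/
theorem isIso_comp_of_agree {D : Type*} [Category* D] {H : D ⥤ D'} {Hr : D' ⥤ D} (adjH : H ⊣ Hr)
    {A : C ⥤ D} {G : C ⥤ C'} {Φ A' : C' ⥤ D'} {γ : A ⋙ H ⟶ G ⋙ Φ} {b : A ⋙ H ⟶ G ⋙ A'} {V : C'}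
    {c : Φ.obj V ⟶ A'.obj V} {M : C} {χ : G.obj M ⟶ V} (h : Agree γ b c M χ)
    (hP : IsIso (adjH.homEquiv (A.obj M) _ (γ.app M ≫ Φ.map χ)))
    (hQ : IsIso (adjH.homEquiv (A.obj M) _ (b.app M ≫ A'.map χ))) : IsIso (Hr.map c) := by
  have h' : adjH.homEquiv (A.obj M) _ (b.app M ≫ A'.map χ) =
      adjH.homEquiv (A.obj M) _ (γ.app M ≫ Φ.map χ) ≫ Hr.map c := by
    rw [← Adjunction.homEquiv_naturality_right]
    refine congrArg _ ?_
    exact h.symm.trans (Category.assoc _ _ _).symm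
  rw [h'] at hQ
  haveI := hP
  haveI := hQ
  exact IsIso.of_isIso_comp_left (adjH.homEquiv (A.obj M) _ (γ.app M ≫ Φ.map χ)) _

end Abs

section Affine

variable {Z : Scheme.{u}} [IsAffine Z]

/-- The ring of sections of an affine scheme. -/
theorem bijective_toGlobal_isoSpec (Z : Scheme.{u}) [IsAffine Z] :
    Function.Bijective (Coh.toGlobal (A := Γ(Z, ⊤)) Z.isoSpec.hom) :=
  (ConcreteCategory.bijective_of_isIso Z.isoSpec.hom.appTop).comp
    (ConcreteCategory.bijective_of_isIso (Scheme.ΓSpecIso (CommRingCat.of Γ(Z, ⊤))).inv)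

/-- Endomorphisms of a shift of `O` are scalars. -/
theorem exists_smul_id {A : Type u} [CommRing A] [Z.Over (Spec (CommRingCat.of A))]
    (hA : Function.Bijective (Coh.toGlobal (Z ↘ Spec (CommRingCat.of A)))) (m : ℤ) {N : DCoh.D Z}
    (eN : N ≅ (DCoh.inD Z (Coh.structureModule Z))⟦m⟧) (s : N ⟶ N) : ∃ r : A, s = r • 𝟙 N := by
  obtain ⟨t₁, ht₁⟩ := (shiftFunctor (DCoh.D Z) m).map_surjective (eN.inv ≫ s ≫ eN.hom)
  obtain ⟨t₀, ht₀⟩ := (DerivedCategory.singleFunctor Z.Modules 0).map_surjective t₁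
  obtain ⟨r, hr⟩ := hA.2 (KFlatLib.unitSecEquiv (Coh.structureModule Z) t₀)
  have h0 : t₀ = r • 𝟙 _ := by
    apply (KFlatLib.unitSecEquiv (Coh.structureModule Z)).injective
    rw [DualFMLib.unitSecEquiv_eq (r • 𝟙 (Coh.structureModule Z)), KLin.smul_app_apply, ← hr]
    simp
  have h1 : t₁ = r • 𝟙 _ := by
    rw [← ht₀, h0, Functor.map_smul, CategoryTheory.Functor.map_id]
  have h2 : eN.inv ≫ s ≫ eN.hom = r • 𝟙 _ := by
    rw [← ht₁, h1, Functor.map_smul, CategoryTheory.Functor.map_id]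
  refine ⟨r, ?_⟩
  have h3 := congrArg (fun z => eN.hom ≫ z ≫ eN.inv) h2
  simpa [Linear.smul_comp, Linear.comp_smul] using h3

/-- An upper bound detected by maps out of `O`. -/
theorem isLE_of_hom_unit (C : DCoh.D Z) (hC : DCoh.IsQCohD C) (c : ℤ)
    (h : ∀ i : ℤ, c < i → ∀ φ : DCoh.inD Z (Coh.structureModule Z) ⟶ C⟦i⟧, φ = 0) : C.IsLE c := by
  let T := (t.triangleLTGE (c + 1)).obj C
  have hT : T ∈ distTriang _ := t.triangleLTGE_distinguished (c + 1) C
  haveI h1 : T.obj₁.IsLE c := t.isLE_truncLT_obj C (c + 1) c (by omega)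
  haveI h3 : T.obj₃.IsGE (c + 1) := t.isGE_truncGE_obj C (c + 1) (c + 1) (by omega)
  have hq₁ : DCoh.IsQCohD T.obj₁ := by
    intro j
    by_cases hj : j ≤ c
    · haveI := DerLib.Ghost.isIso_homologyMap_truncLTι C (c + 1) j (by omega)
      exact @QCohLib.isQCoh_of_iso _ _ _
        (asIso ((DerivedCategory.homologyFunctor Z.Modules j).map ((t.truncLTι (c + 1)).app C))).symm (hC j)
    · exact QCohLib.isQCoh_of_isZero (DerivedCategory.isZero_of_isLE T.obj₁ c j (by omega))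
  have hq₃ : DCoh.IsQCohD T.obj₃ :=
    KFlatLib.isQCohD₂ (rot_of_distTriang _ hT) hC (KFlatLib.isQCohD_shift hq₁ 1)
  have hz : IsZero T.obj₃ := KoszOrthLib.isZero_of_forall_hom_affine _ hq₃ fun i φ => by
    by_cases hi : i ≤ c
    · haveI : (T.obj₃⟦i⟧).IsGE (c + 1 - i) := t.isGE_shift T.obj₃ (c + 1) i (c + 1 - i) (by omega)
      haveI : (DCoh.inD Z (Coh.structureModule Z)).IsLE 0 := inferInstance
      exact t.zero φ 0 (c + 1 - i) (by omega)
    · have hTi := Triangle.shift_distinguished T hT i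
      obtain ⟨z, hz⟩ : ∃ z, φ = z ≫ ((Triangle.shiftFunctor _ i).obj T).mor₂ := by
        refine Triangle.coyoneda_exact₃ _ hTi φ ?_
        let e : (T.obj₁⟦i⟧)⟦(1 : ℤ)⟧ ≅ T.obj₁⟦i + 1⟧ :=
          ((shiftFunctorAdd' (DCoh.D Z) i 1 (i + 1) rfl).app T.obj₁).symm
        exact zero_of_comp_mono e.hom (KoszOrthLib.hom_unit_shift_eq_zero_of_isLE hq₁ c (by omega) _)
      rw [hz, h i (by omega) z, zero_comp]
  haveI : IsIso T.mor₁ := (Triangle.isZero₃_iff_isIso₁ _ hT).1 hz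
  exact t.isLE_of_iso (asIso T.mor₁) c

end Affine

end Groth.Agent.BCArbLib
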