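import Groth.Agent.DualFMLib.FlatHom.Xi
import Groth.Agent.DerBCLib.Models
import Groth.Agent.S3527

/-!
# Base change of direct images along an arbitrary map for a flat morphism
-/

set_option autoImplicit false
set_option linter.style.haveILetI false
set_option linter.unusedSectionVars false
set_option backward.isDefEq.respectTransparency false
set_option backward.isDefEq.respectTransparency.types false
set_option maxHeartbeats 1000000
set_option synthInstance.maxHeartbeats 200000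

universe u

open CategoryTheory CategoryTheory.Limits AlgebraicGeometry
open Groth.Agent.DualFMLib

attribute [local instance] HasDerivedCategory.standard

namespace Groth.Agent.BCArbLib

variable {X Y X' Y' : Scheme.{u}} {f : X ⟶ Y} {g : Y' ⟶ Y} {f' : X' ⟶ Y'} {g' : X' ⟶ X}
  [DCoh.HasRpush f] [DCoh.HasRpush f'] [DCoh.HasRpush g] [DCoh.HasRpush g']
  [DCoh.HasLpull g] [DCoh.HasLpull g'] {hf : DCoh.RpushPreservesQCoh f}
  {hf' : DCoh.RpushPreservesQCoh f'} {hg : DCoh.RpushPreservesQCoh g} {hg' : DCoh.RpushPreservesQCoh g'}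
  {hLg : Dual3.LpullPreservesQCoh g} {hLg' : Dual3.LpullPreservesQCoh g'}
  (adjg : Dual3.LpullQ g hLg ⊣ DCoh.RpushQ g hg) (adjg' : Dual3.LpullQ g' hLg' ⊣ DCoh.RpushQ g' hg')

/-- Base change on `DQCoh` for a flat morphism. -/
theorem isIso_bcPush_flatMap [QuasiCompact f] [QuasiSeparated f] [Flat f] (hsq : IsPullback g' f' f g)
    (T : DCoh.DQCoh X) : IsIso (Dual3.bcPush (sqQ hsq.w hf hf' hg hg') adjg adjg' T) := by
  refine isIso_bc_congr (adjg₀ := adjQ hLg hg) (adjg₀' := adjQ hLg' hg') _ T ?_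
  have h := DerBCLib.isIso_baseChangeApp hsq (KFlatLib.lpullRpushAdj g) (KFlatLib.lpullRpushAdj g')
    (fun M hM hMq => DerBCLib.hasLocModel_tor hM hMq fun U hU U' hU' e V hV e' i hi => by
      letI := (g.appLE U U' e).hom.toModule
      letI := (f.appLE U V e').hom.toModule
      have hflat : (f.appLE U V e').hom.Flat := Flat.flat_appLE f hU hV e'
      haveI : Module.Flat Γ(Y, U) Γ(X, V) := hflat
      exact (Groth.Agent.S3527.result Γ(Y, U) Γ(X, V) Γ(Y', U') i hi).2) T.obj T.property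
  let β₀ := ((adjQ hLg hg).homEquiv _ _).symm
    ((DCoh.RpushQ f hf).map ((adjQ hLg' hg').unit.app T) ≫
      (sqQ hsq.w hf hf' hg hg').hom.app ((Dual3.LpullQ g' hLg').obj T))
  have heq : β₀.hom = DCoh.baseChangeApp (KFlatLib.lpullRpushAdj g) (KFlatLib.lpullRpushAdj g')
      (DerBCLib.rpushSqIso hsq.w) T.obj := by
    simp only [β₀, adjQ, Adjunction.mkOfHomEquiv_homEquiv, Equiv.coe_fn_symm_mk]
    change ((KFlatLib.lpullRpushAdj g).homEquiv _ _).symm
      ((DCoh.Rpush f).map _ ≫ (DerBCLib.rpushSqIso hsq.w).hom.app _) = _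
    have h0 := adjQ_unit hLg' hg' T
    simp only [adjQ] at h0
    exact congrArg (fun z => ((KFlatLib.lpullRpushAdj g).homEquiv _ _).symm
      ((DCoh.Rpush f).map z ≫ (DerBCLib.rpushSqIso hsq.w).hom.app _)) h0
  have h' : IsIso β₀.hom := heq.symm ▸ h
  haveI : IsIso ((DCoh.IsQCohD (X := Y')).ι.map β₀) := h'
  exact isIso_of_fully_faithful (DCoh.IsQCohD (X := Y')).ι β₀

variable {a : DCoh.DQCoh Y ⥤ DCoh.DQCoh X} {a' : DCoh.DQCoh Y' ⥤ DCoh.DQCoh X'}

include adjg adjg' in
/-- `ξ` is invertible for a flat morphism. -/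
theorem isIso_xi_sqQ_flatMap [QuasiCompact f] [QuasiSeparated f] [Flat f] (hsq : IsPullback g' f' f g)
    (adj : DCoh.RpushQ f hf ⊣ a) (adj' : DCoh.RpushQ f' hf' ⊣ a') (M : DCoh.DQCoh Y') :
    IsIso (Dual3.xi adj adj' (sqQ hsq.w hf hf' hg hg') M) :=
  isIso_xi adj adj' (sqQ hsq.w hf hf' hg hg') adjg adjg' M
    (fun T => isIso_bcPush_flatMap adjg adjg' hsq T) _ rfl

end Groth.Agent.BCArbLib
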