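import Groth.Agent.BCArbLib.Pr
import Groth.Agent.BCArbLib.Deg
import Groth.Agent.BCArbLib.Prep
import Groth.Agent.BCArbLib.Xi
import Groth.Agent.Dual3Lib.RightAdjTensorIso
import Groth.Agent.Dual3Lib.SerreMain
import Groth.Agent.S3600
import Groth.Agent.S1002

/-!
# Base change of the right adjoint along a map of affine schemes
-/

set_option autoImplicit false
set_option linter.style.haveILetI false
set_option linter.unusedSectionVars false
set_option backward.isDefEq.respectTransparency false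
set_option backward.isDefEq.respectTransparency.types false
set_option maxHeartbeats 1000000
set_option synthInstance.maxHeartbeats 200000

universe u

open CategoryTheory CategoryTheory.Limits AlgebraicGeometry CategoryTheory.Pretriangulated
open DerivedCategory.TStructure (t)
open Groth.Agent.DerLib Groth.Agent.PerfDualLib Groth.Agent.DualFMLib

attribute [local instance] HasDerivedCategory.standard

noncomputable section

namespace Groth.Agent.BCArbLib

section Nat

variable {C D D₁ C' D' D'₁ : Type*} [Category* C] [Category* D] [Category* D₁] [Category* C'] [Category* D']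
  [Category* D'₁]

/-- The comparison of `g'^* a` with the tensor formula. -/
def gammaIso {A : C ⥤ D} {H : D ⥤ D'} {iY : C ⥤ D₁} {p : D₁ ⥤ D} {l : D ⥤ D} {l' : D' ⥤ D'}
    {q : D₁ ⥤ D'₁} {p' : D'₁ ⥤ D'} {G : C ⥤ C'} {iY' : C' ⥤ D'₁}
    (θ : A ≅ iY ⋙ p ⋙ l) (τ : l ⋙ H ≅ H ⋙ l') (cm : p ⋙ H ≅ q ⋙ p') (s : iY ⋙ q ≅ G ⋙ iY') :
    A ⋙ H ≅ G ⋙ iY' ⋙ p' ⋙ l' :=
  NatIso.ofComponents (fun M => H.mapIso (θ.app M) ≪≫ τ.app _ ≪≫ l'.mapIso (cm.app _ ≪≫ p'.mapIso (s.app M)))
    fun {M N} u => by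
      have h1 := congrArg H.map (θ.hom.naturality u)
      have h2 := τ.hom.naturality (p.map (iY.map u))
      have h3 := congrArg l'.map (cm.hom.naturality (iY.map u))
      have h4 := congrArg (fun z => l'.map (p'.map z)) (s.hom.naturality u)
      simp only [Functor.comp_map, Functor.comp_obj, Functor.map_comp] at h1 h2 h3 h4 ⊢
      simp only [Iso.trans_hom, Functor.mapIso_hom, Iso.app_hom, Functor.map_comp, Category.assoc,
        Functor.comp_obj]
      rw [reassoc_of% h1, reassoc_of% h2, reassoc_of% h3, h4]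

theorem gammaIso_app {A : C ⥤ D} {H : D ⥤ D'} {iY : C ⥤ D₁} {p : D₁ ⥤ D} {l : D ⥤ D} {l' : D' ⥤ D'}
    {q : D₁ ⥤ D'₁} {p' : D'₁ ⥤ D'} {G : C ⥤ C'} {iY' : C' ⥤ D'₁}
    (θ : A ≅ iY ⋙ p ⋙ l) (τ : l ⋙ H ≅ H ⋙ l') (cm : p ⋙ H ≅ q ⋙ p') (s : iY ⋙ q ≅ G ⋙ iY') (M : C) :
    (gammaIso θ τ cm s).hom.app M = H.map (θ.hom.app M) ≫ τ.hom.app (p.obj (iY.obj M)) ≫
      l'.map (cm.hom.app (iY.obj M) ≫ p'.map (s.hom.app M)) := rfl

/-- The transpose of the comparison. -/
theorem homEquiv_gamma {H : D ⥤ D'} {Hr : D' ⥤ D} (adjH : H ⊣ Hr) {l : D ⥤ D} {l' : D' ⥤ D'}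
    (τ : l ⋙ H ≅ H ⋙ l') {A₀ P₀ : D} {U : D'} (θ₀ : A₀ ⟶ l.obj P₀) (z : H.obj P₀ ⟶ U) :
    adjH.homEquiv A₀ (l'.obj U) (H.map θ₀ ≫ τ.hom.app P₀ ≫ l'.map z) =
      θ₀ ≫ l.map (adjH.homEquiv P₀ U z) ≫
        adjH.homEquiv _ _ (τ.hom.app (Hr.obj U) ≫ l'.map (adjH.counit.app U)) := by
  rw [← Adjunction.homEquiv_naturality_left, ← Adjunction.homEquiv_naturality_left]
  refine congrArg _ ?_
  have h := τ.hom.naturality (adjH.homEquiv P₀ U z)
  simp only [Functor.comp_map] at h
  rw [reassoc_of% h, ← Functor.map_comp]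
  refine congrArg (fun y => H.map θ₀ ≫ τ.hom.app P₀ ≫ l'.map y) ?_
  exact (((adjH.homEquiv P₀ U).symm_apply_apply z).symm.trans (adjH.homEquiv_counit _ _ _))

end Nat

variable {X Y X' Y' : Scheme.{u}} {f : X ⟶ Y} {g : Y' ⟶ Y} {f' : X' ⟶ Y'} {g' : X' ⟶ X}
  [IsAffine Y] [IsAffine Y'] [IsProper f] [Flat f] [LocallyOfFinitePresentation f]
  [DCoh.HasRpush f] [DCoh.HasRpush f'] [DCoh.HasRpush g] [DCoh.HasRpush g']
  [DCoh.HasLpull g] [DCoh.HasLpull g']
  {hf : DCoh.RpushPreservesQCoh f} {hf' : DCoh.RpushPreservesQCoh f'}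
  {hg : DCoh.RpushPreservesQCoh g} {hg' : DCoh.RpushPreservesQCoh g'}
  {a : DCoh.DQCoh Y ⥤ DCoh.DQCoh X} {a' : DCoh.DQCoh Y' ⥤ DCoh.DQCoh X'}

/-- Base change of the right adjoint for a map of affine schemes. -/
theorem isIso_bcAbs_affine (hsq : IsPullback g' f' f g) (hLg : Dual3.LpullPreservesQCoh g)
    (hLg' : Dual3.LpullPreservesQCoh g')
    (adj : DCoh.RpushQ f hf ⊣ a) (adj' : DCoh.RpushQ f' hf' ⊣ a')
    [hξ : ∀ M, IsIso (xiAbs adj adj' (sqQ hsq.w hf hf' hg hg') M)] (K : DCoh.DQCoh Y) :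
    IsIso (bcAbs adj adj' (sqQ hsq.w hf hf' hg hg') (adjQ hLg hg) (adjQ hLg' hg') K) := by
  haveI : IsProper f' := MorphismProperty.of_isPullback (P := @IsProper) hsq inferInstance
  haveI : Flat f' := MorphismProperty.of_isPullback (P := @Flat) hsq inferInstance
  haveI : LocallyOfFinitePresentation f' :=
    MorphismProperty.of_isPullback (P := @LocallyOfFinitePresentation) hsq inferInstance
  haveI : IsAffineHom g' := MorphismProperty.of_isPullback (P := @IsAffineHom) hsq.flip inferInstance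
  haveI : CompactSpace X := QuasiCompact.compactSpace_of_compactSpace f
  haveI : CompactSpace X' := QuasiCompact.compactSpace_of_compactSpace f'
  haveI : QuasiSeparatedSpace X := quasiSeparatedSpace_of_quasiSeparated f
  haveI : QuasiSeparatedSpace X' := quasiSeparatedSpace_of_quasiSeparated f'
  haveI := KFlatLib.hasLpull f
  haveI := KFlatLib.hasLpull f'
  have hcop : ∀ J : Type u, PreservesColimitsOfShape (Discrete J) a :=
    Groth.Agent.S3600.result X Y f hf a adj
  have hcop' : ∀ J : Type u, PreservesColimitsOfShape (Discrete J) a' :=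
    Groth.Agent.S3600.result X' Y' f' hf' a' adj'
  let OY := Dual3Lib.unitQ Y
  obtain ⟨E, hE, ⟨eE⟩⟩ := PerfDualLib.exists_kFlat_model (a.obj OY).obj
  have hEq : DCoh.IsQCohD (DerivedCategory.Q.obj E) := KFlatLib.isQCohD_iso eE.symm (a.obj OY).property
  haveI := KFlatLib.hasLTensorCx E
  haveI := KFlatLib.hasLTensorCx ((KFlatLib.pullCx g').obj E)
  obtain ⟨θ⟩ := Dual3Lib.nonempty_rightAdjoint_iso_tensor f hf a adj hcop OY ⟨Iso.refl _⟩ E ⟨eE⟩
  let adjG := adjQ hLg hg
  let adjG' := adjQ hLg' hg'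
  let adjH := KFlatLib.lpullRpushAdj g'
  let H := DCoh.Lpull g'
  let l' := DCoh.LTensorCx ((KFlatLib.pullCx g').obj E)
  let ιX := (DCoh.IsQCohD (X := X)).ι
  let ιX' := (DCoh.IsQCohD (X := X')).ι
  let ιY' := (DCoh.IsQCohD (X := Y')).ι
  let G := Dual3.LpullQ g hLg
  -- the flipped square
  obtain ⟨cm, hcm⟩ := exists_mate (KFlatLib.lpullRpushAdj f) (KFlatLib.lpullRpushAdj g)
    (KFlatLib.lpullRpushAdj f') (KFlatLib.lpullRpushAdj g')
    (DerBCLib.rpushSqIso (f := g) (g := f) (f' := g') (g' := f') hsq.flip.w)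
  let τ := tau g' E hE
  let s : (DCoh.IsQCohD (X := Y)).ι ⋙ DCoh.Lpull g ≅ G ⋙ ιY' := (ObjectProperty.liftCompιIso _ _ _).symm
  let Φ : DCoh.DQCoh Y' ⥤ DCoh.D X' := ιY' ⋙ DCoh.Lpull f' ⋙ l'
  let γ : (a ⋙ ιX) ⋙ H ≅ G ⋙ Φ := gammaIso θ τ cm s
  let e := sqQ hsq.w hf hf' hg hg'
  let b : (a ⋙ ιX) ⋙ H ⟶ G ⋙ a' ⋙ ιX' :=
    { app := fun M => (bcAbs adj adj' e adjG adjG' M).hom
      naturality := fun M N u => by
        haveI : IsIso (betaAbs e adjG adjG' (a.obj M)) := isIso_bcPush_flatMap adjG adjG' hsq _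
        exact congrArg (fun z => z.hom) (bcAbs_natural adj adj' e adjG adjG' u) }
  -- transposes
  have hQ : ∀ M : DCoh.DQCoh Y, adjH.homEquiv (a.obj M).obj _ (b.app M) =
      (a.map (adjG.unit.app M) ≫ inv (xiAbs adj adj' e (G.obj M))).hom := fun M => by
    have h1 : bcAbs adj adj' e adjG adjG' M =
        (adjG'.homEquiv _ _).symm (a.map (adjG.unit.app M) ≫ inv (xiAbs adj adj' e (G.obj M))) := by
      rw [Adjunction.homEquiv_counit, Functor.map_comp, Category.assoc]
      rfl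
    change adjH.homEquiv _ _ (bcAbs adj adj' e adjG adjG' M).hom = _
    rw [h1]
    simp only [adjG', adjQ, Adjunction.mkOfHomEquiv_homEquiv, Equiv.coe_fn_symm_mk]
    exact (adjH.homEquiv _ _).apply_symm_apply _
  -- linear structures
  letI : Y'.Over (Spec (CommRingCat.of Γ(Y', ⊤))) := ⟨Y'.isoSpec.hom⟩
  letI : X'.Over (Spec (CommRingCat.of Γ(Y', ⊤))) := ⟨f' ≫ Y' ↘ Spec (CommRingCat.of Γ(Y', ⊤))⟩
  haveI : f'.IsOver (Spec (CommRingCat.of Γ(Y', ⊤))) := ⟨rfl⟩
  have hlinP : SemiLin Γ(Y', ⊤) Γ(Y', ⊤) (DCoh.RpushQ f' hf') :=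
    ⟨fun r M => ObjectProperty.hom_ext _ ((semiLin_rpush_self f').map_smul_id r M.obj)⟩
  have hlin' := hlinP.rightAdjoint adj'
  -- the structure sheaf and its shifts
  have hiso : ∀ m : ℤ, IsIso (b.app (OY⟦m⟧)) := by
    intro m
    let On := OY⟦m⟧
    let V := G.obj On
    let c : Φ.obj V ⟶ (a' ⋙ ιX').obj V := γ.inv.app On ≫ b.app On
    let eOn : On.obj ≅ (DCoh.inD Y (Coh.structureModule Y))⟦m⟧ :=
      ((DCoh.IsQCohD (X := Y)).ι.commShiftIso m).app OY
    obtain ⟨_, _⟩ := exists_isTriangulated_lpull g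
    let eV : V.obj ≅ (DCoh.inD Y' (Coh.structureModule Y'))⟦m⟧ :=
      (DCoh.Lpull g).mapIso eOn ≪≫ ((DCoh.Lpull g).commShiftIso m).app _ ≪≫
        (shiftFunctor _ m).mapIso ((DCoh.Lpull g).mapIso
          ((DerivedCategory.singleFunctorIsoCompQ Y.Modules 0).app _) ≪≫ KiehlLib.lpullUnitIso g ≪≫
            ((DerivedCategory.singleFunctorIsoCompQ Y'.Modules 0).app _).symm)
    have hc : γ.hom.app On ≫ c = b.app On := Iso.hom_inv_id_app_assoc γ On _
    have hscal : ∀ χ : V ⟶ V, Agree γ.hom b c On χ := fun χ => by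
      obtain ⟨r, hr⟩ := exists_smul_id (bijective_toGlobal_isoSpec Y') m eV χ.hom
      refine agree_smul γ.hom b On c hc r ?_ ?_
      · change l'.map ((DCoh.Lpull f').map χ.hom) = _
        rw [hr, (semiLin_lpull_self f').map_smul_id, Algebra.algebraMap_self, RingHom.id_apply,
          Dual3Lib.Serre.lTensor_map_smul, CategoryTheory.Functor.map_id]
        rfl
      · have h2 : χ = r • 𝟙 V := ObjectProperty.hom_ext _ hr
        change (a'.map χ).hom = _
        rw [h2, hlin'.map_smul_id, Algebra.algebraMap_self, RingHom.id_apply]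
        rfl
    let W := (DCoh.RpushQ g hg).obj V
    let M0 : Γ(Y', ⊤) → DCoh.DQCoh Y := fun _ => On
    let p : ∐ M0 ⟶ W := Sigma.desc fun r => adjG.homEquiv On V (r • 𝟙 V)
    let ε : G.obj W ⟶ V := adjG.counit.app V
    obtain ⟨_, _⟩ := QRlimLib.exists_isTriangulated_rpush f
    haveI : (DCoh.RpushQ f hf).IsTriangulated :=
      ObjectProperty.isTriangulated_lift _ ((DCoh.IsQCohD (X := X)).ι ⋙ DCoh.Rpush f) _
    letI := adj.rightAdjointCommShift ℤ
    haveI := adj.commShift_of_leftAdjoint ℤ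
    haveI : a.IsTriangulated := adj.isTriangulated_rightAdjoint
    obtain ⟨_, _⟩ := exists_isTriangulated_lpull g'
    haveI : PreservesColimitsOfSize.{u, u} H := adjH.leftAdjoint_preservesColimits
    haveI := hcop Γ(Y', ⊤)
    obtain ⟨C, q, d, hT⟩ := distinguished_cocone_triangle p
    have hsig := agree_sigma (γ := γ.hom) (b := b) (c := c) M0 p ε fun r => by
      have h1 : Sigma.ι M0 r ≫ p = adjG.homEquiv On V (r • 𝟙 V) := Sigma.ι_desc _ _
      have h2 : G.map (Sigma.ι M0 r ≫ p) ≫ ε = r • 𝟙 V := by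
        rw [h1, ← adjG.homEquiv_counit, Equiv.symm_apply_apply]
      rw [h2]
      exact hscal _
    -- the cone is in degrees `< -m`
    haveI hWge : W.obj.IsGE (-m) := by
      haveI : ((DCoh.inD Y' (Coh.structureModule Y'))⟦m⟧).IsGE (-m) := t.isGE_shift _ 0 m (-m) (by omega)
      haveI : V.obj.IsGE (-m) := t.isGE_of_iso eV.symm (-m)
      exact QRlimLib.rpush_isGE g V.obj (-m)
    haveI hCle : C.obj.IsLE (-m - 1) := by
      refine isLE_of_hom_unit C.obj C.property _ fun i hi φ => ?_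
      let ιY := (DCoh.IsQCohD (X := Y)).ι
      let φ' : OY ⟶ C⟦i⟧ := ObjectProperty.homMk (φ ≫ (ιY.commShiftIso i).inv.app C)
      suffices hφ : φ' = 0 by
        exact zero_of_comp_mono ((ιY.commShiftIso i).inv.app C) (congrArg (fun z => z.hom) hφ)
      have hTi := Triangle.shift_distinguished _ hT i
      have hW0 : ∀ ψ : OY ⟶ W⟦i⟧, ∃ ψ₀ : OY ⟶ (∐ M0)⟦i⟧, ψ = ψ₀ ≫ p⟦i⟧' := by
        intro ψ
        by_cases him : i = -m
        · subst him
          let k := shiftFunctorCompIsoId (DCoh.DQCoh Y) (-m) m (by omega)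
          let χ : On ⟶ W := ψ⟦m⟧' ≫ k.hom.app W
          obtain ⟨r, hr⟩ := exists_smul_id (bijective_toGlobal_isoSpec Y') m eV ((adjG.homEquiv On V).symm χ).hom
          have hr' : (adjG.homEquiv On V).symm χ = r • 𝟙 V := ObjectProperty.hom_ext _ hr
          let ψ₁ : On ⟶ ∐ M0 := Sigma.ι M0 r
          have h1 : ψ₁ ≫ p = χ := (Sigma.ι_desc _ _).trans
            ((congrArg (adjG.homEquiv On V) hr'.symm).trans ((adjG.homEquiv On V).apply_symm_apply χ))
          refine ⟨(shiftFunctor (DCoh.DQCoh Y) m).preimage (ψ₁ ≫ k.inv.app (∐ M0)),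
            (shiftFunctor (DCoh.DQCoh Y) m).map_injective ?_⟩
          rw [Functor.map_comp, Functor.map_preimage, Category.assoc]
          have h2 := k.inv.naturality p
          simp only [Functor.id_map, Functor.comp_map] at h2
          rw [← h2, reassoc_of% h1, Category.assoc, Iso.hom_inv_id_app]
          exact (Category.comp_id _).symm
        · refine ⟨0, ?_⟩
          rw [zero_comp]
          refine ObjectProperty.hom_ext _ (zero_of_comp_mono ((ιY.commShiftIso i).hom.app W) ?_)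
          let eVi : ((DCoh.inD Y' (Coh.structureModule Y'))⟦m + i⟧) ≅ V.obj⟦i⟧ :=
            (shiftFunctorAdd' (DCoh.D Y') m i (m + i) rfl).app _ ≪≫ (shiftFunctor _ i).mapIso eV.symm
          haveI : (DCoh.Rpush g).Additive := by
            obtain ⟨_, _⟩ := QRlimLib.exists_isTriangulated_rpush g
            infer_instance
          obtain ⟨_, _⟩ := QRlimLib.exists_isTriangulated_rpush g
          let adjg₀ := KFlatLib.lpullRpushAdj g
          refine zero_of_comp_mono (((DCoh.Rpush g).commShiftIso i).inv.app V.obj) ?_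
          apply (adjg₀.homEquiv _ _).symm.injective
          rw [Adjunction.homEquiv_counit, Adjunction.homEquiv_counit, Functor.map_zero, zero_comp]
          haveI : (DCoh.inD Y' (Coh.structureModule Y')).IsLE 0 := inferInstance
          have hu : DCoh.IsQCohD (DCoh.inD Y' (Coh.structureModule Y')) :=
            (Dual3Lib.unitQ Y').property
          refine zero_of_epi_comp ((DCoh.Lpull g).mapIso
            ((DerivedCategory.singleFunctorIsoCompQ Y.Modules 0).app _) ≪≫ KiehlLib.lpullUnitIso g ≪≫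
            ((DerivedCategory.singleFunctorIsoCompQ Y'.Modules 0).app _).symm).inv
            (zero_of_comp_mono eVi.inv ?_)
          exact KoszOrthLib.hom_unit_shift_eq_zero_of_isLE hu 0 (by omega) _
      obtain ⟨ψ, hψ⟩ : ∃ ψ, φ' = ψ ≫ ((Triangle.shiftFunctor _ i).obj (Triangle.mk p q d)).mor₂ := by
        refine Triangle.coyoneda_exact₃ _ hTi φ' ?_
        refine zero_of_comp_mono ((shiftFunctorAdd' (DCoh.DQCoh Y) i 1 (i + 1) rfl).inv.app (∐ M0)) ?_
        haveI : On.obj.IsLE (-m) := by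
          haveI : ((DCoh.inD Y (Coh.structureModule Y))⟦m⟧).IsLE (-m) := t.isLE_shift _ 0 m (-m) (by omega)
          exact t.isLE_of_iso eOn.symm (-m)
        haveI : (∐ M0).obj.IsLE (-m) := by
          haveI := KoszOrthLib.hasCoproducts_D Y
          haveI : (∐ fun χ => ιY.obj (M0 χ)).IsLE (-m) :=
            (t.isLE_iff_orthogonal (-m) (-m + 1) rfl _).2 fun Z z hz => Sigma.hom_ext _ _ fun χ => by
              haveI : (ιY.obj (M0 χ)).IsLE (-m) := ‹On.obj.IsLE (-m)›
              haveI := hz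
              rw [comp_zero]
              exact t.zero _ (-m) (-m + 1) (by omega)
          exact t.isLE_of_iso (PreservesCoproduct.iso ιY M0).symm (-m)
        refine ObjectProperty.hom_ext _ (zero_of_comp_mono ((ιY.commShiftIso (i + 1)).hom.app (∐ M0)) ?_)
        exact KoszOrthLib.hom_unit_shift_eq_zero_of_isLE (∐ M0).property (-m) (by omega) _
      obtain ⟨ψ₀, hψ₀⟩ := hW0 ψ
      rw [hψ, hψ₀, Category.assoc]
      have h0 : p ≫ q = 0 := comp_distTriang_mor_zero₁₂ _ hT
      have h1 : p⟦i⟧' ≫ ((Triangle.shiftFunctor _ i).obj (Triangle.mk p q d)).mor₂ = 0 := by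
        simp [Triangle.shiftFunctor, ← Functor.map_comp, h0]
      rw [h1, comp_zero]
    have hperf : DCoh.IsPerfect ((DCoh.Rpush f).obj (DerivedCategory.Q.obj (unitCx X))) :=
      Groth.Agent.S1002.result f _ (PerfBaseLib.isPerfect_unitCx X)
    have hvan : ∀ z : ((a ⋙ ιX) ⋙ H).obj C ⟶ (a' ⋙ ιX').obj V, z = 0 := fun z => by
      haveI := isLE_rpush_rightAdjoint f hf a adj hperf C (-m - 1)
      let w : a.obj C ⟶ a.obj W := (ObjectProperty.homMk (adjH.homEquiv (a.obj C).obj _ z) :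
        a.obj C ⟶ (DCoh.RpushQ g' hg').obj (a'.obj V)) ≫ xiAbs adj adj' e V
      have hw : w = 0 := by
        apply (adj.homEquiv _ _).symm.injective
        refine ObjectProperty.hom_ext _ ?_
        have h1 : ∀ ν : (DCoh.Rpush f).obj (a.obj C).obj ⟶ W.obj, ν = 0 := fun ν =>
          t.zero ν (-m - 1) (-m) (by omega)
        exact (h1 _).trans (h1 _).symm
      have h2 : adjH.homEquiv (a.obj C).obj _ z = 0 :=
        congrArg (fun y => y.hom) (zero_of_comp_mono (xiAbs adj adj' e V) hw)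
      apply (adjH.homEquiv (a.obj C).obj _).injective
      refine h2.trans ?_
      haveI := additive_lpull g'
      obtain ⟨_, _⟩ := QRlimLib.exists_isTriangulated_rpush g'
      rw [Adjunction.homEquiv_unit, Functor.map_zero, comp_zero]
    have hag : Agree γ.hom b c W ε := agree_of_triangle _ hT ε hsig hvan
    have hP : IsIso (adjH.homEquiv ((a ⋙ ιX).obj W) _ (γ.hom.app W ≫ Φ.map ε)) := by
      let P0 := (DCoh.Lpull f).obj W.obj
      let z : H.obj P0 ⟶ (DCoh.Lpull f').obj V.obj := cm.hom.app W.obj ≫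
        (DCoh.Lpull f').map ((KFlatLib.lpullRpushAdj g).counit.app V.obj)
      have h1 : γ.hom.app W ≫ Φ.map ε = H.map (θ.hom.app W) ≫ τ.hom.app P0 ≫ l'.map z := by
        change (gammaIso θ τ cm s).hom.app W ≫ _ = _
        rw [gammaIso_app]
        simp only [Category.assoc]
        refine congrArg (fun y => H.map (θ.hom.app W) ≫ τ.hom.app P0 ≫ y) ?_
        change l'.map _ ≫ l'.map ((DCoh.Lpull f').map ε.hom) = _
        rw [← Functor.map_comp, Category.assoc, ← Functor.map_comp]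
        refine congrArg (fun y => l'.map (cm.hom.app W.obj ≫ (DCoh.Lpull f').map y)) ?_
        simp [s, ε, adjG, adjQ, Adjunction.homEquiv_counit]
        exact Category.id_comp _
      rw [h1]
      erw [homEquiv_gamma adjH τ (A₀ := (a.obj W).obj) (θ.hom.app W) z]
      have hκ : IsIso (adjH.homEquiv P0 _ z) := by
        refine (congrArg IsIso (hcm V.obj)).mpr ?_
        exact DerBCLib.isIso_baseChangeApp hsq.flip (KFlatLib.lpullRpushAdj f) (KFlatLib.lpullRpushAdj f')
          (fun T hT hTq => DerBCLib.hasLocModel_flat hT hTq) V.obj V.property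
      have hpr : IsIso (adjH.homEquiv _ _
          (τ.hom.app ((DCoh.Rpush g').obj ((DCoh.Lpull f').obj V.obj)) ≫
            l'.map (adjH.counit.app ((DCoh.Lpull f').obj V.obj)))) :=
        isIso_pr g' E hE hEq _ (KFlatLib.isQCohD_lpull f' _ V.property)
      exact @IsIso.comp_isIso _ _ _ _ _ _ _ (NatIso.hom_app_isIso θ W)
        (@IsIso.comp_isIso _ _ _ _ _ _ _ (@Functor.map_isIso _ _ _ _ _ _ (DCoh.LTensorCx E) _ hκ) hpr)
    have hQ' : IsIso (adjH.homEquiv ((a ⋙ ιX).obj W) _ (b.app W ≫ (a' ⋙ ιX').map ε)) := by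
      rw [Adjunction.homEquiv_naturality_right]
      have h3 : (a.map (adjG.unit.app W) ≫ inv (xiAbs adj adj' e (G.obj W))) ≫
          (DCoh.RpushQ g' hg').map (a'.map ε) = inv (xiAbs adj adj' e V) := by
        have hn : xiAbs adj adj' e (G.obj W) ≫ a.map ((DCoh.RpushQ g hg).map ε) =
            (DCoh.RpushQ g' hg').map (a'.map ε) ≫ xiAbs adj adj' e V := by
          rw [xiAbs, xiAbs, ← Adjunction.homEquiv_naturality_left, ← Adjunction.homEquiv_naturality_right]
          refine congrArg _ ?_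
          have hn1 := e.hom.naturality (a'.map ε)
          simp only [Functor.comp_map] at hn1
          rw [reassoc_of% hn1, Category.assoc, ← Functor.map_comp, ← Functor.map_comp]
          exact congrArg (fun y => _ ≫ (DCoh.RpushQ g hg).map y) (adj'.counit.naturality ε).symm
        have hn' : inv (xiAbs adj adj' e (G.obj W)) ≫ (DCoh.RpushQ g' hg').map (a'.map ε) =
            a.map ((DCoh.RpushQ g hg).map ε) ≫ inv (xiAbs adj adj' e V) := by
          rw [IsIso.inv_comp_eq, ← Category.assoc, IsIso.eq_comp_inv]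
          exact hn.symm
        rw [Category.assoc, hn', ← Category.assoc, ← Functor.map_comp,
          adjG.right_triangle_components]
        erw [CategoryTheory.Functor.map_id, Category.id_comp]
      have h4 := congrArg (fun y => y.hom) h3
      rw [show adjH.homEquiv ((a ⋙ ιX).obj W) _ (b.app W) = _ from hQ W]
      refine (congrArg IsIso h4).mpr ?_
      exact inferInstanceAs (IsIso (ιX.map (inv (xiAbs adj adj' e V))))
    have hcpush : IsIso ((DCoh.Rpush g').map c) := isIso_comp_of_agree adjH hag hP hQ'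
    have hΦq : DCoh.IsQCohD (Φ.obj V) := KFlatLib.isQCohD_iso (γ.app On)
      (KFlatLib.isQCohD_lpull g' _ (a.obj On).property)
    haveI : IsIso c := QRlimLib.isIso_of_isIso_rpush g' hΦq (a'.obj V).property c hcpush
    change IsIso (b.app On)
    rw [← hc]
    infer_instance
  -- all objects
  obtain ⟨_, _⟩ := QRlimLib.exists_isTriangulated_rpush f
  haveI : (DCoh.RpushQ f hf).IsTriangulated :=
    ObjectProperty.isTriangulated_lift _ ((DCoh.IsQCohD (X := X)).ι ⋙ DCoh.Rpush f) _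
  letI := adj.rightAdjointCommShift ℤ
  haveI := adj.commShift_of_leftAdjoint ℤ
  haveI : a.IsTriangulated := adj.isTriangulated_rightAdjoint
  obtain ⟨_, _⟩ := QRlimLib.exists_isTriangulated_rpush f'
  haveI : (DCoh.RpushQ f' hf').IsTriangulated :=
    ObjectProperty.isTriangulated_lift _ ((DCoh.IsQCohD (X := X')).ι ⋙ DCoh.Rpush f') _
  letI := adj'.rightAdjointCommShift ℤ
  haveI := adj'.commShift_of_leftAdjoint ℤ
  haveI : a'.IsTriangulated := adj'.isTriangulated_rightAdjoint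
  obtain ⟨_, _⟩ := QRlimLib.exists_isTriangulated_rpush g
  haveI : (DCoh.RpushQ g hg).IsTriangulated :=
    ObjectProperty.isTriangulated_lift _ ((DCoh.IsQCohD (X := Y')).ι ⋙ DCoh.Rpush g) _
  letI := adjG.leftAdjointCommShift ℤ
  haveI : adjG.CommShift ℤ := adjG.commShift_of_rightAdjoint ℤ
  haveI : G.IsTriangulated := adjG.isTriangulated_leftAdjoint
  obtain ⟨_, _⟩ := exists_isTriangulated_lpull g'
  haveI : PreservesColimitsOfSize.{u, u} H := adjH.leftAdjoint_preservesColimits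
  haveI : PreservesColimitsOfSize.{u, u} G := adjG.leftAdjoint_preservesColimits
  let S₁ := (a ⋙ ιX) ⋙ H
  let S₂ := G ⋙ a' ⋙ ιX'
  let SS : DCoh.DQCoh Y → Prop := fun W => ∀ n : ℤ, IsIso (b.app (W⟦n⟧))
  have hSiso : ∀ {W W' : DCoh.DQCoh Y}, (W ≅ W') → SS W → SS W' := fun i h n =>
    (NatTrans.isIso_app_iff_of_iso b ((shiftFunctor _ n).mapIso i)).1 (h n)
  have h5 : ∀ T : Triangle (DCoh.DQCoh Y), T ∈ distTriang _ → SS T.obj₁ → SS T.obj₂ → SS T.obj₃ := by
    intro T hT h₁ h₂ n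
    rw [DerivedCategory.isIso_iff]
    intro i
    let τ' : S₁ ⋙ DerivedCategory.homologyFunctor X'.Modules i ⟶
        S₂ ⋙ DerivedCategory.homologyFunctor X'.Modules i := Functor.whiskerRight b _
    let sh : ∀ W : DCoh.DQCoh Y, (W⟦n⟧)⟦(1 : ℤ)⟧ ≅ W⟦n + 1⟧ := fun W =>
      ((shiftFunctorAdd' (DCoh.DQCoh Y) n 1 (n + 1) rfl).app W).symm
    have hm : ∀ W, IsIso (b.app W) → IsIso (τ'.app W) := fun W h => by
      haveI := h
      exact inferInstanceAs (IsIso ((DerivedCategory.homologyFunctor X'.Modules i).map (b.app W)))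
    exact Dual3Lib.isIso_app_obj₃ τ' _ (Triangle.shift_distinguished _ hT n) (hm _ (h₁ n)) (hm _ (h₂ n))
      (hm _ ((NatTrans.isIso_app_iff_of_iso b (sh T.obj₁)).2 (h₁ (n + 1))))
      (hm _ ((NatTrans.isIso_app_iff_of_iso b (sh T.obj₂)).2 (h₂ (n + 1))))
  have hsum : ∀ {J : Type u} (M : J → DCoh.DQCoh Y), (∀ j, SS (M j)) → SS (∐ M) := by
    intro J M hM n
    haveI := hcop J
    haveI := hcop' J
    refine (NatTrans.isIso_app_iff_of_iso b
      (PreservesCoproduct.iso (shiftFunctor (DCoh.DQCoh Y) n) M)).2 ?_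
    exact Dual3Lib.isIso_app_colimit b (coproductIsCoproduct fun j => (M j)⟦n⟧) fun j => hM j.as n
  have hsumN : ∀ (M : ℕ → DCoh.DQCoh Y), (∀ j, SS (M j)) → SS (∐ M) := fun M hM =>
    hSiso (Sigma.whiskerEquiv (g := M) (f := fun j : ULift.{u} ℕ => M j.down) Equiv.ulift
      (fun j => Iso.refl _)) (hsum _ fun j => hM j.down)
  have hall : SS K := Dual3Lib.forall_of_generates (E := fun _ : PUnit.{u + 1} => OY)
    Dual3Lib.isZero_of_forall_hom_unitQ
    (Dual3Lib.cSmall_of_isPerfect _ (KoszOrthLib.isPerfect_inD_unit _)) SS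
    (fun p n => (NatTrans.isIso_app_iff_of_iso b
      ((shiftFunctorAdd' (DCoh.DQCoh Y) p.2 n (p.2 + n) rfl).app OY)).1 (hiso (p.2 + n)))
    h5 hSiso hsum hsumN K
  haveI : IsIso (bcAbs adj adj' e adjG adjG' K).hom :=
    (NatTrans.isIso_app_iff_of_iso b ((shiftFunctorZero (DCoh.DQCoh Y) ℤ).app K)).1 (hall 0)
  haveI : IsIso ((DCoh.IsQCohD (X := X')).ι.map (bcAbs adj adj' e adjG adjG' K)) :=
    inferInstanceAs (IsIso (bcAbs adj adj' e adjG adjG' K).hom)
  exact isIso_of_fully_faithful (DCoh.IsQCohD (X := X')).ι _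

end Groth.Agent.BCArbLib
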