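import Groth.Agent.BCArbLib.Tau
import Groth.Agent.Dual3Lib.LpullTensorNat
import Groth.Agent.Dual3Lib.PushHom
import Groth.Agent.DerBCLib.Derived
import Groth.Agent.LpullTildeLib.Main

/-!
# The projection formula for a pullback comparison of tensor products
-/

set_option autoImplicit false
set_option linter.style.haveILetI false
set_option linter.unusedSectionVars false
set_option backward.isDefEq.respectTransparency false
set_option backward.isDefEq.respectTransparency.types false
set_option maxHeartbeats 1000000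
set_option synthInstance.maxHeartbeats 200000

universe u

open CategoryTheory CategoryTheory.Limits AlgebraicGeometry HomologicalComplex
open Groth.Agent.DerLib Groth.Agent.PerfDualLib Groth.Agent.ProjFormLib

attribute [local instance] HasDerivedCategory.standard

noncomputable section

namespace Groth.Agent.BCArbLib

/-- Cancelling two inverse pairs. -/
theorem cancel_five {C : Type*} [Category* C] {A B D F G H K : C} (a : A ⟶ B) (b : B ⟶ D)
    {c c₂ : D ⟶ F} (hc : c = c₂) {ci : F ⟶ G} {li : G ⟶ H} {l : H ⟶ G} {cc : G ⟶ F}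
    (hl : li ≫ l = 𝟙 G) (hci : ci ≫ cc = 𝟙 F) (q : F ⟶ K) :
    (a ≫ b ≫ c ≫ ci ≫ li) ≫ l ≫ cc ≫ q = a ≫ b ≫ c₂ ≫ q := by
  subst hc
  simp only [Category.assoc, reassoc_of% hl, reassoc_of% hci]

variable {X X' : Scheme.{u}} (h : X' ⟶ X) [DCoh.HasLpull h] (E : Cx X) (hE : DCoh.IsKFlat E)
  [DCoh.HasLTensorCx E] [DCoh.HasLTensorCx ((KFlatLib.pullCx h).obj E)]

variable [DCoh.HasRpush h]

/-- The projection map built from the comparison. -/
def pr (V : DCoh.D X') :
    (DCoh.LTensorCx E).obj ((DCoh.Rpush h).obj V) ⟶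
      (DCoh.Rpush h).obj ((DCoh.LTensorCx ((KFlatLib.pullCx h).obj E)).obj V) :=
  (KFlatLib.lpullRpushAdj h).homEquiv _ _ ((tau h E hE).hom.app ((DCoh.Rpush h).obj V) ≫
    (DCoh.LTensorCx ((KFlatLib.pullCx h).obj E)).map ((KFlatLib.lpullRpushAdj h).counit.app V))

theorem pr_natural {V V' : DCoh.D X'} (v : V ⟶ V') :
    (DCoh.LTensorCx E).map ((DCoh.Rpush h).map v) ≫ pr h E hE V' =
      pr h E hE V ≫ (DCoh.Rpush h).map ((DCoh.LTensorCx ((KFlatLib.pullCx h).obj E)).map v) := by
  let T' := DCoh.LTensorCx ((KFlatLib.pullCx h).obj E)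
  rw [pr, pr, ← Adjunction.homEquiv_naturality_left, ← Adjunction.homEquiv_naturality_right]
  refine congrArg _ ?_
  have h1 := (tau h E hE).hom.naturality ((DCoh.Rpush h).map v)
  simp only [Functor.comp_map] at h1
  rw [reassoc_of% h1, Category.assoc, ← Functor.map_comp, ← Functor.map_comp]
  exact congrArg (fun z => (tau h E hE).hom.app _ ≫ T'.map z)
    ((KFlatLib.lpullRpushAdj h).counit.naturality v)

include hE in
/-- The projection formula. -/
theorem isIso_pr [QuasiCompact h] [QuasiSeparated h] (hEq : DCoh.IsQCohD (DerivedCategory.Q.obj E))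
    (V : DCoh.D X') (hV : DCoh.IsQCohD V) : IsIso (pr h E hE V) := by
  obtain ⟨I, hI, ⟨eI⟩⟩ := KInjUse.exists_iso_Q_kInjective V
  haveI := hI
  let T' := DCoh.LTensorCx ((KFlatLib.pullCx h).obj E)
  suffices hm : IsIso (pr h E hE (DerivedCategory.Q.obj I)) by
    haveI := hm
    have h1 := pr_natural h E hE eI.hom
    have h2 : pr h E hE V = (DCoh.LTensorCx E).map ((DCoh.Rpush h).map eI.hom) ≫
        pr h E hE (DerivedCategory.Q.obj I) ≫ (DCoh.Rpush h).map (T'.map eI.inv) := by
      rw [reassoc_of% h1, ← Functor.map_comp, ← Functor.map_comp, Iso.hom_inv_id,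
        CategoryTheory.Functor.map_id, CategoryTheory.Functor.map_id, Category.comp_id]
    rw [h2]
    infer_instance
  have hIq : DCoh.IsQCohD (DerivedCategory.Q.obj I) := KFlatLib.isQCohD_iso eI hV
  let M := (pushC h).obj I
  let A := (KFlatLib.resP X).obj M
  let ψ : A ⟶ (pushC h).obj I := (KFlatLib.resψ X).app M
  haveI : QuasiIso ψ := KFlatLib.quasiIso_resψ _
  have hA : DCoh.IsKFlat A := (KFlatLib.good_resP M).1
  haveI := Dual3Lib.isIso_pushQ h I
  let p : DerivedCategory.Q.obj A ⟶ (DCoh.Rpush h).obj (DerivedCategory.Q.obj I) :=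
    DerivedCategory.Q.map ψ ≫ Dual3Lib.pushQ h I
  haveI hp : IsIso p := IsIso.comp_isIso
  let adj := KFlatLib.lpullRpushAdj h
  let ψ' := ((cxAdj h).homEquiv A I).symm ψ
  have hε : (DCoh.Lpull h).map p ≫ adj.counit.app (DerivedCategory.Q.obj I) =
      (KFlatLib.lpullObjIso h A hA).hom ≫ DerivedCategory.Q.map ψ' := by
    apply (adj.homEquiv _ _).injective
    rw [adj.homEquiv_naturality_left, Adjunction.homEquiv_unit]
    refine Eq.trans ?_ (homEquiv_pushQ h A I hA ψ).symm
    rw [adj.right_triangle_components]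
    exact Category.comp_id p
  let cE : (DCoh.LTensorCx E).obj (DerivedCategory.Q.obj A) ≅
      DerivedCategory.Q.obj (((DCoh.tensorCx (X := X)).obj A).obj E) :=
    (TensorAssocLib.resCnt E).app M
  let c' := TensorAssocLib.flatCnt ((KFlatLib.pullCx h).obj E) (KFlatLib.isKFlat_pull h hE)
  let z : (pullC h).obj (((DCoh.tensorCx (X := X)).obj A).obj E) ⟶
      ((DCoh.tensorCx (X := X')).obj I).obj ((pullC h).obj E) :=
    (KFlatLib.pullTensorCxIso h A E).inv ≫ (TensorAssocLib.tR ((pullC h).obj E)).map ψ'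
  have hz : (cxAdj h).homEquiv _ _ z = proj h ψ E := rfl
  have hmain : (DCoh.LTensorCx E).map p ≫ pr h E hE (DerivedCategory.Q.obj I) =
      cE.hom ≫ Dual3Lib.beta h ψ E ≫ (DCoh.Rpush h).map (c'.inv.app I) := by
    have hb : Dual3Lib.beta h ψ E = adj.homEquiv _ _
        ((KFlatLib.lpullObjIso h _ (Dual3Lib.isKFlat_resP_tR hE M)).hom ≫ DerivedCategory.Q.map z) := by
      have h3 := homEquiv_pushQ h (((DCoh.tensorCx (X := X)).obj A).obj E)
        (((DCoh.tensorCx (X := X')).obj I).obj ((pullC h).obj E)) (Dual3Lib.isKFlat_resP_tR hE M)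
        (proj h ψ E)
      rw [← hz, Equiv.symm_apply_apply] at h3
      rw [hz] at h3
      exact h3.symm
    rw [hb, pr, ← Adjunction.homEquiv_naturality_left]
    refine Eq.trans ?_ ((adj.homEquiv_naturality_left cE.hom _).trans
      (congrArg (cE.hom ≫ ·) (adj.homEquiv_naturality_right _ (c'.inv.app I))))
    refine congrArg _ ?_
    have h1 := (tau h E hE).hom.naturality p
    simp only [Functor.comp_map] at h1
    rw [reassoc_of% h1, ← Functor.map_comp, hε, Functor.map_comp, tau_app_resP h E hE M]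
    have h4 : T'.map (DerivedCategory.Q.map ψ') ≫ c'.hom.app I =
        c'.hom.app ((pullC h).obj A) ≫
          DerivedCategory.Q.map ((TensorAssocLib.tR ((pullC h).obj E)).map ψ') :=
      c'.hom.naturality ψ'
    rw [← cancel_mono (c'.hom.app I)]
    simp only [Category.assoc, Iso.inv_hom_id_app, Category.comp_id]
    rw [h4, show DerivedCategory.Q.map z = DerivedCategory.Q.map (KFlatLib.pullTensorCxIso h A E).inv ≫
      DerivedCategory.Q.map ((TensorAssocLib.tR ((pullC h).obj E)).map ψ') from Functor.map_comp _ _ _]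
    simp only [tauRes]
    rw [glueIso_app]
    refine cancel_five _ _ ?_ ?_ ?_ _
    · rfl
    · exact (T'.mapIso (KFlatLib.lpullObjIso h A hA)).inv_hom_id
    · exact c'.inv_hom_id_app ((pullC h).obj A)
  haveI : IsIso (Dual3Lib.beta h ψ E) := Dual3Lib.isIso_beta_of_qcoh h ψ hA hIq E hE hEq
  haveI : IsIso ((DCoh.LTensorCx E).map p ≫ pr h E hE (DerivedCategory.Q.obj I)) := by
    rw [hmain]
    infer_instance
  exact IsIso.of_isIso_comp_left ((DCoh.LTensorCx E).map p) _

end Groth.Agent.BCArbLib
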