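import Groth.Agent.Dual3Lib.LpullTensorNat
import Groth.Agent.Dual3Lib.PushHom
import Groth.Agent.DerBCLib.Derived
import Groth.Agent.LpullTildeLib.Main

/-!
# The projection formula for a pullback comparison of tensor products
-/

set_option autoImplicit false
set_option linter.style.haveILetI false
set_option linter.unusedSectionVars false
set_option backward.isDefEq.respectTransparency false
set_option backward.isDefEq.respectTransparency.types false
set_option maxHeartbeats 1000000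
set_option synthInstance.maxHeartbeats 200000

universe u

open CategoryTheory CategoryTheory.Limits AlgebraicGeometry HomologicalComplex
open Groth.Agent.DerLib Groth.Agent.PerfDualLib Groth.Agent.ProjFormLib

attribute [local instance] HasDerivedCategory.standard

noncomputable section

namespace Groth.Agent.BCArbLib

/-- A comparison of composite functors computed on good objects. -/
def glueIso {A A' B C : Type*} [Category* A] [Category* A'] [Category* B] [Category* C] {r : A ⥤ A}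
    {q : A ⥤ B} {lt : B ⥤ B} {lp : B ⥤ C} {tr : A ⥤ A} {pc : A ⥤ A'} {q' : A' ⥤ C} {lt' : C ⥤ C}
    {tr' : A' ⥤ A'} {K : A → Prop} (k : r ⋙ q ⋙ lt ≅ r ⋙ tr ⋙ q)
    (l : ∀ P, K P → (lp.obj (q.obj P) ≅ q'.obj (pc.obj P)))
    (hl : ∀ {P P' : A} (hP : K P) (hP' : K P') (g : P ⟶ P'),
      lp.map (q.map g) ≫ (l P' hP').hom = (l P hP).hom ≫ q'.map (pc.map g))
    (hr : ∀ M, K (r.obj M)) (ht : ∀ M, K ((r ⋙ tr).obj M))
    (e₂ : tr ⋙ pc ≅ pc ⋙ tr') (c' : q' ⋙ lt' ≅ tr' ⋙ q') : r ⋙ q ⋙ lt ⋙ lp ≅ r ⋙ q ⋙ lp ⋙ lt' :=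
  NatIso.ofComponents (fun M => lp.mapIso (k.app M) ≪≫ l _ (ht M) ≪≫ q'.mapIso (e₂.app (r.obj M)) ≪≫
      (c'.app (pc.obj (r.obj M))).symm ≪≫ lt'.mapIso (l _ (hr M)).symm)
    fun {M N} g => by
      have h₀ := congrArg lp.map (k.hom.naturality g)
      have h₁ := hl (ht M) (ht N) (tr.map (r.map g))
      have h₂ := congrArg q'.map (e₂.hom.naturality (r.map g))
      have h₃ := c'.inv.naturality (pc.map (r.map g))
      have h₄ : lt'.map (q'.map (pc.map (r.map g))) ≫ lt'.map (l _ (hr N)).inv =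
          lt'.map (l _ (hr M)).inv ≫ lt'.map (lp.map (q.map (r.map g))) := by
        rw [← Functor.map_comp, ← Functor.map_comp]
        refine congrArg lt'.map ?_
        rw [← cancel_epi (l _ (hr M)).hom, Iso.hom_inv_id_assoc, ← reassoc_of% (hl (hr M) (hr N) (r.map g)),
          Iso.hom_inv_id, Category.comp_id]
      simp only [Functor.comp_map, Functor.comp_obj, Functor.map_comp] at h₀ h₁ h₂ h₃ ⊢
      simp only [Iso.trans_hom, Functor.mapIso_hom, Iso.app_hom, Iso.symm_hom, Iso.app_inv,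
        Category.assoc, Functor.comp_obj, Functor.mapIso_inv]
      rw [reassoc_of% h₀, reassoc_of% h₁, reassoc_of% h₂, reassoc_of% h₃, h₄]

theorem glueIso_app {A A' B C : Type*} [Category* A] [Category* A'] [Category* B] [Category* C] {r : A ⥤ A}
    {q : A ⥤ B} {lt : B ⥤ B} {lp : B ⥤ C} {tr : A ⥤ A} {pc : A ⥤ A'} {q' : A' ⥤ C} {lt' : C ⥤ C}
    {tr' : A' ⥤ A'} {K : A → Prop} (k : r ⋙ q ⋙ lt ≅ r ⋙ tr ⋙ q)
    (l : ∀ P, K P → (lp.obj (q.obj P) ≅ q'.obj (pc.obj P)))
    (hl : ∀ {P P' : A} (hP : K P) (hP' : K P') (g : P ⟶ P'),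
      lp.map (q.map g) ≫ (l P' hP').hom = (l P hP).hom ≫ q'.map (pc.map g))
    (hr : ∀ M, K (r.obj M)) (ht : ∀ M, K ((r ⋙ tr).obj M))
    (e₂ : tr ⋙ pc ≅ pc ⋙ tr') (c' : q' ⋙ lt' ≅ tr' ⋙ q') (M : A) :
    (glueIso k l (fun hP hP' g => hl hP hP' g) hr ht e₂ c').hom.app M =
      lp.map (k.hom.app M) ≫ (l _ (ht M)).hom ≫ q'.map (e₂.hom.app (r.obj M)) ≫
        c'.inv.app (pc.obj (r.obj M)) ≫ lt'.map (l _ (hr M)).inv := rfl

/-- An isomorphism of functors on a localisation, given after the localisation functor. -/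
def descRes {A B D : Type*} [Category* A] [Category* B] [Category* D] (q : A ⥤ B)
    (W : MorphismProperty A) [q.IsLocalization W] (F G : B ⥤ D) (e : q ⋙ F ≅ q ⋙ G) : F ≅ G :=
  Localization.liftNatIso q W (q ⋙ F) (q ⋙ G) F G e

theorem descRes_app {A B D : Type*} [Category* A] [Category* B] [Category* D] (q : A ⥤ B)
    (W : MorphismProperty A) [q.IsLocalization W] (F G : B ⥤ D) (e : q ⋙ F ≅ q ⋙ G) (M : A) :
    (descRes q W F G e).hom.app (q.obj M) = e.hom.app M := by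
  simp [descRes]

/-- A transpose computed from a factorisation of the unit. -/
theorem homEquiv_step {C D : Type*} [Category* C] [Category* D] {L : C ⥤ D} {R : D ⥤ C} (adj : L ⊣ R)
    {A A₀ A₁ A₁' : C} {B₀ B : D} (i : A ⟶ A₀) (α : L.obj A₀ ⟶ B₀) (j : B₀ ⟶ B)
    {w : A₀ ⟶ A₁} {v : A₁ ⟶ R.obj B₀} (h0 : adj.unit.app A₀ ≫ R.map α = w ≫ v)
    {w' : A ⟶ A₁'} {i' : A₁' ⟶ A₁} (h1 : i ≫ w = w' ≫ i')
    {z : L.obj A ⟶ B} (hz : z = L.map i ≫ α ≫ j) {pq : A₁' ⟶ R.obj B} (hpq : pq = i' ≫ v ≫ R.map j) :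
    adj.homEquiv A B z = w' ≫ pq := by
  subst hz hpq
  rw [Adjunction.homEquiv_naturality_left, Adjunction.homEquiv_unit, Functor.map_comp, reassoc_of% h0,
    reassoc_of% h1]

variable {X X' : Scheme.{u}} (h : X' ⟶ X) [DCoh.HasLpull h]

/-- The transpose, under `Lh^* ⊣ Rh_*`, of a map computed on complexes. -/
theorem homEquiv_pushQ [DCoh.HasRpush h] (P : Cx X) (J : Cx X') (hP : DCoh.IsKFlat P)
    (x : P ⟶ (pushC h).obj J) :
    (KFlatLib.lpullRpushAdj h).homEquiv _ _ ((KFlatLib.lpullObjIso h P hP).hom ≫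
        DerivedCategory.Q.map (((cxAdj h).homEquiv P J).symm x)) =
      DerivedCategory.Q.map x ≫ Dual3Lib.pushQ h J := by
  let x' := ((cxAdj h).homEquiv P J).symm x
  have hx : x = (cxAdj h).unit.app P ≫ (pushC h).map x' := by
    exact ((Equiv.apply_symm_apply _ _).symm.trans ((cxAdj h).homEquiv_unit _ _ x'))
  have hn := Dual3Lib.pushQ_natural h x'
  have key := homEquiv_step (KFlatLib.lpullRpushAdj h)
    ((DerivedCategory.quotientCompQhIso X.Modules).inv.app P)
    ((DerBCLib.pullα h).app ((DerBCLib.qH X).obj P))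
    ((DerivedCategory.quotientCompQhIso X'.Modules).hom.app ((pullC h).obj P))
    (DerBCLib.unit_fac (g := h) P)
    ((DerivedCategory.quotientCompQhIso X.Modules).inv.naturality ((cxAdj h).unit.app P)).symm
    (z := (KFlatLib.lpullObjIso h P hP).hom) (pq := Dual3Lib.pushQ h ((pullC h).obj P)) rfl rfl
  rw [Adjunction.homEquiv_naturality_right, key, Category.assoc]
  conv_rhs => rw [hx, Functor.map_comp, Category.assoc]
  exact congrArg (DerivedCategory.Q.map ((cxAdj h).unit.app P) ≫ ·) hn.symm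

variable (E : Cx X) (hE : DCoh.IsKFlat E) [DCoh.HasLTensorCx E]
  [DCoh.HasLTensorCx ((KFlatLib.pullCx h).obj E)]

/-- The comparison on resolutions. -/
def tauRes :
    KFlatLib.resP X ⋙ DerivedCategory.Q ⋙ DCoh.LTensorCx E ⋙ DCoh.Lpull h ≅
      KFlatLib.resP X ⋙ DerivedCategory.Q ⋙ DCoh.Lpull h ⋙
        DCoh.LTensorCx ((KFlatLib.pullCx h).obj E) :=
  glueIso (K := DCoh.IsKFlat) (TensorAssocLib.resCnt E) (fun P hP => KFlatLib.lpullObjIso h P hP)
    (fun hP hP' g => LpullTildeLib.lpullObjIso_natural h hP hP' g) (fun M => (KFlatLib.good_resP M).1)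
    (Dual3Lib.isKFlat_resP_tR hE) (Dual3Lib.pullTRIso h E)
    (TensorAssocLib.flatCnt ((KFlatLib.pullCx h).obj E) (KFlatLib.isKFlat_pull h hE))

/-- `Lh^*(- ⊗ E) ≅ Lh^*(-) ⊗ h^*E`. -/
def tau : DCoh.LTensorCx E ⋙ DCoh.Lpull h ≅
    DCoh.Lpull h ⋙ DCoh.LTensorCx ((KFlatLib.pullCx h).obj E) :=
  descRes DerivedCategory.Q (HomologicalComplex.quasiIso X.Modules (ComplexShape.up ℤ)) _ _
    (TensorAssocLib.resIso (DCoh.LTensorCx E ⋙ DCoh.Lpull h) ≪≫ tauRes h E hE ≪≫
      (TensorAssocLib.resIso (DCoh.Lpull h ⋙ DCoh.LTensorCx ((KFlatLib.pullCx h).obj E))).symm)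

theorem tau_app_resP (M : Cx X) :
    (tau h E hE).hom.app (DerivedCategory.Q.obj ((KFlatLib.resP X).obj M)) =
      (tauRes h E hE).hom.app M := by
  let q := (KFlatLib.resψ X).app M
  haveI : QuasiIso q := KFlatLib.quasiIso_resψ M
  have h1 := (tau h E hE).hom.naturality (DerivedCategory.Q.map q)
  have h2 : (tau h E hE).hom.app (DerivedCategory.Q.obj M) =
      (DCoh.LTensorCx E ⋙ DCoh.Lpull h).map (inv (DerivedCategory.Q.map q)) ≫
        (tauRes h E hE).hom.app M ≫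
          (DCoh.Lpull h ⋙ DCoh.LTensorCx ((KFlatLib.pullCx h).obj E)).map (DerivedCategory.Q.map q) := by
    simp only [tau, descRes_app]
    simp [TensorAssocLib.resIso, q]
  simp only [Functor.id_obj] at h1
  rw [h2, ← Category.assoc, ← Functor.map_comp, IsIso.hom_inv_id, CategoryTheory.Functor.map_id,
    Category.id_comp] at h1
  exact ((cancel_mono ((DCoh.Lpull h ⋙ DCoh.LTensorCx ((KFlatLib.pullCx h).obj E)).map
    (DerivedCategory.Q.map q))).1 h1.symm)

end Groth.Agent.BCArbLib
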